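import Mathlib.RingTheory.Etale.Basic
import Mathlib.RingTheory.Unramified.Finite
import Mathlib.RingTheory.Unramified.LocalStructure
import Mathlib.RingTheory.Spectrum.Prime.Topology
import Mathlib.RingTheory.Jacobson.Ideal
import Mathlib.FieldTheory.IsAlgClosed.Basic

/-!
# Equalizers of lifts along an etale algebra, and extension of geometric points
-/

set_option autoImplicit false
set_option linter.style.haveILetI false
universe u

open TensorProduct

namespace Groth.L24.AffQuot.EtaleStab

/-- Two lifts along an etale algebra that agree at all points over a prime agree near it. -/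
theorem exists_notMem_mul_eq {A A' R T : Type u} [CommRing A] [CommRing A'] [Algebra A A']
    [Algebra.Etale A A'] [CommRing R] [CommRing T] [Algebra R T] [Algebra.IsIntegral R T]
    (h₁ h₂ : A' →+* T) (h : ∀ a, h₁ (algebraMap A A' a) = h₂ (algebraMap A A' a))
    (q : Ideal R) [q.IsPrime]
    (hpt : ∀ Q : Ideal T, Q.IsPrime → Q.comap (algebraMap R T) = q →
      ∃ (K : Type u) (_ : Field K) (ρ : T →+* K), RingHom.ker ρ = Q ∧ ρ.comp h₁ = ρ.comp h₂) :
    ∃ g ∉ q, ∀ a, algebraMap R T g * (h₁ a - h₂ a) = 0 := by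
  letI : Algebra A T := (h₁.comp (algebraMap A A')).toAlgebra
  let f₁ : A' →ₐ[A] T := { toRingHom := h₁, commutes' := fun a => rfl }
  let f₂ : A' →ₐ[A] T := { toRingHom := h₂, commutes' := fun a => (h a).symm }
  let m : A' ⊗[A] A' →ₐ[A] T := Algebra.TensorProduct.lift f₁ f₂ fun _ _ => Commute.all _ _
  let w := m (Algebra.FormallyUnramified.elem A A')
  have hw : ∀ a, w * (h₁ a - h₂ a) = 0 := fun a => by
    have h1 := congrArg m (Algebra.FormallyUnramified.one_tmul_mul_elem (R := A) a)
    simp only [map_mul, m, Algebra.TensorProduct.lift_tmul, map_one, one_mul, mul_one] at h1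
    rw [mul_sub, mul_comm w, mul_comm w, sub_eq_zero]
    exact h1.symm
  have hnot : ∀ Q : Ideal T, Q.IsPrime → Q.comap (algebraMap R T) = q → w ∉ Q := by
    intro Q hQ hQq hwQ
    obtain ⟨K, _, ρ, hker, hρ⟩ := hpt Q hQ hQq
    have h2 : ∀ z : A' ⊗[A] A', ρ (m z) = ρ (h₁ (Algebra.TensorProduct.lmul' A z)) := fun z => by
      induction z using TensorProduct.induction_on with
      | zero => simp
      | tmul a b =>
        simp only [m, Algebra.TensorProduct.lift_tmul, Algebra.TensorProduct.lmul'_apply_tmul, map_mul]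
        exact congrArg (ρ (h₁ a) * ·) (RingHom.congr_fun hρ b).symm
      | add a b ha hb => simp only [map_add, ha, hb]
    have h3 : ρ w = 1 := by
      rw [h2, Algebra.FormallyUnramified.lmul_elem, map_one, map_one]
    rw [← hker, RingHom.mem_ker, h3] at hwQ
    exact one_ne_zero hwQ
  have hcl : IsClosed (PrimeSpectrum.comap (algebraMap R T) '' PrimeSpectrum.zeroLocus {w}) :=
    PrimeSpectrum.isClosedMap_comap_of_isIntegral _ (algebraMap_isIntegral_iff.2 inferInstance) _
      (PrimeSpectrum.isClosed_zeroLocus _)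
  obtain ⟨_, ⟨_, ⟨g, rfl⟩, rfl⟩, hqg, hsub⟩ :=
    PrimeSpectrum.isBasis_basic_opens.exists_subset_of_mem_open (a := (⟨q, ‹_›⟩ : PrimeSpectrum R))
      (ou := hcl.isOpen_compl) (by
        rintro ⟨Q, hQ, hQq⟩
        exact hnot Q.asIdeal Q.isPrime (congrArg PrimeSpectrum.asIdeal hQq) (hQ rfl))
  have hrad : algebraMap R T g ∈ (Ideal.span {w}).radical := by
    rw [Ideal.radical_eq_sInf, Ideal.mem_sInf]
    rintro P ⟨hwP, hP⟩
    by_contra hg
    exact hsub (a := PrimeSpectrum.comap (algebraMap R T) ⟨P, hP⟩) hg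
      ⟨⟨P, hP⟩, fun x hx => by
        rw [Set.mem_singleton_iff] at hx
        exact hx ▸ hwP (Ideal.mem_span_singleton_self w), rfl⟩
  obtain ⟨n, hn⟩ := hrad
  obtain ⟨v, hv⟩ := Ideal.mem_span_singleton'.1 hn
  refine ⟨g ^ n, fun hgn => hqg (Ideal.IsPrime.mem_of_pow_mem ‹_› n hgn), fun a => ?_⟩
  rw [map_pow, ← hv, mul_assoc, hw, mul_zero]

/-- Geometric points extend along etale algebras to any prime in the fibre. -/
theorem exists_point_ext {A A' : Type u} [CommRing A] [CommRing A'] [Algebra A A'] [Algebra.Etale A A']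
    {K : Type u} [Field K] [IsAlgClosed K] (z : A →+* K) (P' : Ideal A') [P'.IsPrime]
    (hP : P'.comap (algebraMap A A') = RingHom.ker z) :
    ∃ w : A' →+* K, w.comp (algebraMap A A') = z ∧ RingHom.ker w = P' := by
  let P := P'.comap (algebraMap A A')
  letI : Algebra P.ResidueField P'.ResidueField :=
    (Ideal.ResidueField.map P P' (algebraMap A A') rfl).toAlgebra
  haveI : IsScalarTower A P.ResidueField P'.ResidueField := IsScalarTower.of_algebraMap_eq fun a =>
    ((IsScalarTower.algebraMap_apply A A' P'.ResidueField a).trans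
      (Ideal.ResidueField.map_algebraMap _ _ _ rfl a).symm)
  haveI : Algebra.QuasiFinite P.ResidueField P'.ResidueField :=
    Algebra.QuasiFinite.of_restrictScalars A P.ResidueField P'.ResidueField
  haveI : Module.Finite P.ResidueField P'.ResidueField := Module.Finite.of_quasiFinite
  have hlift : ∀ x ∈ P.primeCompl, IsUnit (z x) := fun x hx => by
    refine Ne.isUnit fun h0 => hx ?_
    show x ∈ P'.comap (algebraMap A A')
    rw [hP]
    exact h0
  let zb : P.ResidueField →+* K := Ideal.ResidueField.lift P z hP.le hlift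
  letI : Algebra P.ResidueField K := zb.toAlgebra
  let e : P'.ResidueField →ₐ[P.ResidueField] K := IsAlgClosed.lift
  refine ⟨e.toRingHom.comp (algebraMap A' P'.ResidueField), RingHom.ext fun a => ?_, ?_⟩
  · show e (algebraMap A' P'.ResidueField (algebraMap A A' a)) = z a
    rw [← IsScalarTower.algebraMap_apply, IsScalarTower.algebraMap_apply A P.ResidueField P'.ResidueField,
      AlgHom.commutes]
    exact Ideal.ResidueField.lift_algebraMap _ _ _ _ _
  · rw [RingHom.ker_comp_of_injective _ e.toRingHom.injective]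
    exact Ideal.ker_algebraMap_residueField _

end Groth.L24.AffQuot.EtaleStab
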