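import Groth.Agent.L24.AffQuot.EtaleStab.Piece
import Groth.Agent.L24.AffQuot.EtaleStab.Equal
import Groth.Agent.L24.AffQuot.Local

/-!
# An etale neighbourhood of every prime of the invariants of the source groupoid
-/

set_option autoImplicit false
set_option linter.style.haveILetI false
set_option backward.isDefEq.respectTransparency false
set_option backward.isDefEq.respectTransparency.types false

universe u

open TensorProduct IsLocalRing

namespace Groth.L24.AffQuot.EtaleStab

attribute [local instance] Algebra.TensorProduct.rightAlgebra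

variable {C A B A' B' C' : Type u} [CommRing C] [CommRing A] [CommRing B] [CommRing A'] [CommRing B']
  [CommRing C'] [Algebra C A] [Algebra C B] [Algebra C A'] [Algebra C B'] [Algebra C C'] [Algebra A A']
  [IsScalarTower C A A'] [Algebra.Etale A A'] [Algebra.IsIntegral C A]

/-- A map etale at a prime through an etale algebra. -/
theorem exists_etale_nbhd (s t : A →ₐ[C] B) (s' t' : A' →ₐ[C] B') (fB : B →ₐ[C] B') (ι : C' →ₐ[C] A')
    (hι : Function.Injective ι) (hint : ι.toRingHom.IsIntegral) (hst : ∀ c, s' (ι c) = t' (ι c))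
    (hfull : ∀ a, s' a = t' a → ∃ c, ι c = a)
    (hinj₀ : Function.Injective (algebraMap C A)) (hfull₀ : ∀ a, s a = t a → ∃ c, algebraMap C A c = a)
    (hsq₁ : ∀ a, s' (algebraMap A A' a) = fB (s a)) (hsq₂ : ∀ a, t' (algebraMap A A' a) = fB (t a))
    (hdesc : ∀ {T : Type u} [CommRing T] (f : A' →+* T) (g : B →+* T),
      (∀ a, f (algebraMap A A' a) = g (s a)) → ∃ h : B' →+* T, (∀ a, h (s' a) = f a) ∧ ∀ b, h (fB b) = g b)
    (hexts : ∀ {T : Type u} [CommRing T] (f g : B' →+* T),
      (∀ b, f (fB b) = g (fB b)) → (∀ a, f (s' a) = g (s' a)) → f = g)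
    (hextt : ∀ {T : Type u} [CommRing T] (f g : B' →+* T),
      (∀ b, f (fB b) = g (fB b)) → (∀ a, f (t' a) = g (t' a)) → f = g)
    (ht : (t : A →+* B).Finite)
    (harr : ∀ (K : Type u) [Field K] [IsAlgClosed K] [Algebra C K] (z₀ z₁ : A →ₐ[C] K),
      ∃ r : B →ₐ[C] K, r.comp t = z₀ ∧ r.comp s = z₁)
    (e' : B' →+* A') (he₁ : ∀ a, e' (s' a) = a) (he₂ : ∀ a, e' (t' a) = a)
    (htarget : ∀ {K : Type u} [Field K] (ra ρ rb : B' →+* K), (∀ a, ra (s' a) = rb (s' a)) →
      (∀ a, ρ (s' a) = ra (t' a)) → (∀ a, ρ (fB (t a)) = rb (fB (t a))) → ∀ a, ρ (t' a) = rb (t' a))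
    (q' : PrimeSpectrum C') :
    ∃ (D : Type u) (_ : CommRing D) (_ : Algebra C D) (_ : Algebra.Etale C D) (φ : C' →ₐ[C] D),
      φ.toRingHom.Etale ∧ q' ∈ Set.range (PrimeSpectrum.comap φ.toRingHom) := by
  classical
  let q : PrimeSpectrum C := PrimeSpectrum.comap (algebraMap C C') q'
  let R := Localization.AtPrime q.asIdeal
  obtain ⟨S, _, _, _, _, hS⟩ := Groth.L05.Henselization.exists_isStrictHenselization R
  haveI := hS.henselian
  haveI : IsSepClosed (ResidueField S) := hS.isSepClosure.sep_closed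
  letI : Algebra C S := ((algebraMap R S).comp (algebraMap C R)).toAlgebra
  haveI : IsScalarTower C R S := IsScalarTower.of_algebraMap_eq' rfl
  have hind : EtPBC.IsIndEtale C S :=
    Groth.L27.IndEtale.trans C R S (Groth.L27.EtSite.isIndEtale_localization C q.asIdeal.primeCompl R)
      (Groth.L05.Henselization.isIndEtale_of_isStrictHenselization R S)
  haveI : Module.Flat C S := Groth.L27.IndEtale.flat C S hind
  let K := AlgebraicClosure (ResidueField S)
  haveI : IsScalarTower C S K := IsScalarTower.of_algebraMap_eq fun x => rfl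
  haveI : IsScalarTower S (ResidueField S) K := IsScalarTower.of_algebraMap_eq fun x => rfl
  have hkerS : RingHom.ker (algebraMap S K) = maximalIdeal S := by
    ext x
    rw [RingHom.mem_ker, IsScalarTower.algebraMap_apply S (ResidueField S) K, map_eq_zero,
      ResidueField.algebraMap_eq, residue_eq_zero_iff]
  have hqS : (maximalIdeal S).comap (algebraMap C S) = q.asIdeal := by
    have h1 : PrimeSpectrum.comap (algebraMap C S) (closedPoint S) = q := by
      rw [show algebraMap C S = (algebraMap R S).comp (algebraMap C R) from rfl,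
        PrimeSpectrum.comap_comp_apply, IsLocalRing.comap_closedPoint]
      exact PrimeSpectrum.ext (Localization.AtPrime.under_maximalIdeal)
    exact congrArg PrimeSpectrum.asIdeal h1
  -- the base point
  obtain ⟨P', hP', hP'q⟩ : ∃ P' : Ideal A', P'.IsPrime ∧ P'.comap ι.toRingHom = q'.asIdeal := by
    letI := ι.toRingHom.toAlgebra
    haveI : Algebra.IsIntegral C' A' := ⟨hint⟩
    obtain ⟨P', -, hP', h⟩ := Ideal.exists_ideal_over_prime_of_isIntegral (S := A') q'.asIdeal ⊥ (by
      rw [← RingHom.ker_eq_comap_bot, (RingHom.injective_iff_ker_eq_bot (algebraMap C' A')).1 hι]; exact bot_le)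
    exact ⟨P', hP', h⟩
  haveI := hP'
  obtain ⟨z₀, hz₀, hz₀'⟩ := exists_point_of_prime (algebraMap C K) (P'.comap (algebraMap A A')) (by
    rw [IsScalarTower.algebraMap_eq C S K, ← RingHom.comap_ker, hkerS, hqS]
    show _ = q'.asIdeal.comap (algebraMap C C')
    rw [← hP'q, Ideal.comap_comap, Ideal.comap_comap, ← IsScalarTower.algebraMap_eq,
      show ι.toRingHom.comp (algebraMap C C') = algebraMap C A' from ι.comp_algebraMap])
  obtain ⟨w₀, hw₀, hw₀'⟩ := exists_point_ext z₀ P' hz₀'.symm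
  let z₀C : A →ₐ[C] K := { toRingHom := z₀, commutes' := fun c => RingHom.congr_fun hz₀ c }
  -- transport of the base point
  have hW : ∀ z : A →ₐ[C] K, ∃ w : A' →ₐ[C] K, ∃ r : B' →+* K,
      (∀ a, r (s' a) = w₀ a) ∧ (∀ a, r (fB (t a)) = z a) ∧ ∀ a, r (t' a) = w a := by
    intro z
    obtain ⟨r, hr₁, hr₂⟩ := harr K z z₀C
    obtain ⟨h, hh₁, hh₂⟩ := hdesc w₀ (r : B →+* K) fun a =>
      (RingHom.congr_fun hw₀ a).trans (AlgHom.congr_fun hr₂ a).symm
    refine ⟨{ toRingHom := h.comp t'.toRingHom, commutes' := fun c => ?_ }, h, hh₁, fun a => ?_, fun a => rfl⟩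
    · show h (t' (algebraMap C A' c)) = algebraMap C K c
      rw [IsScalarTower.algebraMap_apply C A A', hsq₂, hh₂]
      exact (AlgHom.congr_fun hr₁ (algebraMap C A c)).trans (z.commutes c)
    · rw [hh₂]
      exact AlgHom.congr_fun hr₁ a
  choose W r hr₁ hr₂ hr₃ using hW
  have hWA : ∀ z a, W z (algebraMap A A' a) = z a := fun z a => by rw [← hr₃, hsq₂, hr₂]
  have hW₀ : ∀ a, W z₀C a = w₀ a := by
    intro a
    have h := htarget (w₀.comp e') (w₀.comp e') (r z₀C) (fun a => ?_) (fun a => ?_) (fun a => ?_) a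
    · rw [← hr₃, ← h]
      exact congrArg w₀ (he₂ a)
    · show w₀ (e' (s' a)) = _
      rw [he₁, hr₁]
    · show w₀ (e' (s' a)) = w₀ (e' (t' a))
      rw [he₁, he₂]
    · show w₀ (e' (fB (t a))) = _
      rw [hr₂, ← hsq₂, he₂]
      exact RingHom.congr_fun hw₀ a
  -- lift over the strict henselization
  let D := A ⊗[C] S
  haveI : Algebra.IsIntegral S D := isIntegral_tensor_right (C := C) A S
  let res : (D →ₐ[S] K) → (A →ₐ[C] K) := fun z =>
    (z.restrictScalars C).comp Algebra.TensorProduct.includeLeft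
  have hres : Function.Injective res := fun z z' h => by
    have h2 : z.restrictScalars C = z'.restrictScalars C := by
      refine Algebra.TensorProduct.ext' fun a x => ?_
      have ha : z (a ⊗ₜ[C] (1 : S)) = z' (a ⊗ₜ[C] (1 : S)) := congr($h a)
      have hx : z ((1 : A) ⊗ₜ[C] x) = z' ((1 : A) ⊗ₜ[C] x) := (z.commutes x).trans (z'.commutes x).symm
      show z (a ⊗ₜ[C] x) = z' (a ⊗ₜ[C] x)
      rw [show a ⊗ₜ[C] x = (a ⊗ₜ[C] (1 : S)) * ((1 : A) ⊗ₜ[C] x) by simp, map_mul, map_mul, ha, hx]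
    exact AlgHom.ext fun x => congr($h2 x)
  choose zP hzP using fun P : MaximalSpectrum D =>
    have := P.isMaximal
    exists_hom_of_isMaximal (S := S) K P.asIdeal
  haveI hfin : Finite (MaximalSpectrum D) := by
    letI := (t : A →+* B).toAlgebra
    letI := z₀C.toRingHom.toAlgebra
    haveI : Module.Finite A B := ht
    haveI := finite_algHom (A := A) (B := B) K
    choose ρ hρ₀ hρ₁ using fun P : MaximalSpectrum D => harr K z₀C (res (zP P))
    let rA : MaximalSpectrum D → (B →ₐ[A] K) := fun P =>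
      { toRingHom := (ρ P).toRingHom
        commutes' := fun a => DFunLike.congr_fun (hρ₀ P) a }
    refine Finite.of_injective rA fun P Q h => MaximalSpectrum.ext ?_
    rw [← hzP P, ← hzP Q]
    refine congrArg (fun w : D →ₐ[S] K => RingHom.ker w) (hres ?_)
    rw [← hρ₁ P, ← hρ₁ Q]
    exact AlgHom.ext fun a => DFunLike.congr_fun h (s a)
  letI := Fintype.ofFinite (MaximalSpectrum D)
  have hω : ∀ P : MaximalSpectrum D, ∃ ω : A' →ₐ[A] D ⧸ P.asIdeal,
      ∀ e x, ω e = Ideal.Quotient.mk _ x → W (res (zP P)) e = zP P x := by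
    intro P
    rw [← hzP P]
    exact exists_residue_hom K (zP P) (W (res (zP P)) : A' →+* K) fun a => hWA _ a
  choose ω hω using hω
  obtain ⟨τ0, hτ0⟩ := exists_lift_semilocal S (fun _ => A') ω
  let τ : A' →ₐ[A] D := τ0.comp (AlgHom.pi fun _ => AlgHom.id A A')
  have hτ : ∀ (z : D →ₐ[S] K) (a : A'), z (τ a) = W (res z) a := by
    intro z a
    let P : MaximalSpectrum D := ⟨RingHom.ker z, isMaximal_ker K z⟩
    have e : z = zP P := eq_of_ker_eq K (hzP P).symm
    rw [e]
    exact (hω P a _ (hτ0 P fun _ => a).symm).symm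
  obtain ⟨C₁, _, _, _, β, τ₁, hτ₁⟩ := exists_stage ((algebraMap R S).comp (algebraMap C R)) hind τ
  let ψ₁ : C₁ →ₐ[C] K := (IsScalarTower.toAlgHom C S K).comp β
  have hgood : ∀ (z : A →ₐ[C] K) (a : A'),
      Algebra.TensorProduct.lift z ψ₁ (fun _ _ => Commute.all _ _) (τ₁ a) = W z a := by
    intro z a
    let zC : A ⊗[C] S →ₐ[C] K :=
      Algebra.TensorProduct.lift z (IsScalarTower.toAlgHom C S K) fun _ _ => Commute.all _ _
    let zS : A ⊗[C] S →ₐ[S] K :=
      { toRingHom := zC.toRingHom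
        commutes' := fun x => by simp [zC, Algebra.TensorProduct.right_algebraMap_apply] }
    have h1 : res zS = z := AlgHom.ext fun a => by
      show zC (a ⊗ₜ 1) = z a
      simp [zC]
    rw [← h1, ← hτ zS a, ← hτ₁]
    show _ = zC ((Algebra.TensorProduct.map (AlgHom.id A A) β) (τ₁ a))
    rw [h1]
    clear h1
    induction τ₁ a using TensorProduct.induction_on with
    | zero => simp
    | tmul x y => simp [zC, ψ₁]
    | add x y hx hy => simp only [map_add, hx, hy]
  let q₁ : Ideal C₁ := RingHom.ker ψ₁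
  haveI : q₁.IsPrime := RingHom.ker_isPrime _
  -- the map on arrows
  let sb : A ⊗[C] C₁ →ₐ[C] B ⊗[C] C₁ := Algebra.TensorProduct.map s (AlgHom.id C C₁)
  let tb : A ⊗[C] C₁ →ₐ[C] B ⊗[C] C₁ := Algebra.TensorProduct.map t (AlgHom.id C C₁)
  obtain ⟨σ1, hσs, hσB⟩ := hdesc (sb.toRingHom.comp (τ₁ : A' →+* A ⊗[C] C₁))
    (Algebra.TensorProduct.includeLeftRingHom : B →+* B ⊗[C] C₁) fun a => by
      show sb (τ₁ (algebraMap A A' a)) = _
      rw [τ₁.commutes]
      simp [sb]
  let h₁ : A' →+* B ⊗[C] C₁ := σ1.comp t'.toRingHom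
  let h₂ : A' →+* B ⊗[C] C₁ := tb.toRingHom.comp (τ₁ : A' →+* A ⊗[C] C₁)
  haveI : Algebra.IsIntegral C B := by
    letI := (t : A →+* B).toAlgebra
    haveI : IsScalarTower C A B := IsScalarTower.of_algebraMap_eq fun c => (t.commutes c).symm
    haveI : Module.Finite A B := ht
    haveI : Algebra.IsIntegral A B := Algebra.IsIntegral.of_finite A B
    exact Algebra.IsIntegral.trans A
  haveI := isIntegral_tensor_right (C := C) B C₁
  obtain ⟨g, hgq, hg⟩ := exists_notMem_mul_eq (R := C₁) h₁ h₂ (fun a => by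
      show σ1 (t' (algebraMap A A' a)) = tb (τ₁ (algebraMap A A' a))
      rw [hsq₂, hσB, τ₁.commutes]
      simp [tb]) q₁ (fun Q hQ hQq => by
    haveI := hQ
    obtain ⟨ρ, hρ, hker⟩ := exists_point_of_prime (ψ₁ : C₁ →+* K) Q hQq
    refine ⟨K, inferInstance, ρ, hker, RingHom.ext fun a => ?_⟩
    let ρC : B ⊗[C] C₁ →ₐ[C] K :=
      { toRingHom := ρ
        commutes' := fun c => by
          have h1 := RingHom.congr_fun hρ (algebraMap C C₁ c)
          simp only [RingHom.comp_apply, RingHom.coe_coe, AlgHom.commutes] at h1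
          rw [← h1]
          congr 1
          simp [Algebra.algebraMap_eq_smul_one] }
    let ρB : B →ₐ[C] K := ρC.comp Algebra.TensorProduct.includeLeft
    have hu : ∀ (u : A →ₐ[C] B) (a : A'),
        ρ (Algebra.TensorProduct.map u (AlgHom.id C C₁) (τ₁ a)) = W (ρB.comp u) a := by
      intro u a
      rw [← hgood]
      induction τ₁ a using TensorProduct.induction_on with
      | zero => simp
      | tmul x y =>
        have hy : ρ ((1 : B) ⊗ₜ[C] y) = ψ₁ y := RingHom.congr_fun hρ y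
        simp only [Algebra.TensorProduct.map_tmul, Algebra.TensorProduct.lift_tmul, AlgHom.id_apply]
        rw [show u x ⊗ₜ[C] y = (u x ⊗ₜ[C] (1 : C₁)) * ((1 : B) ⊗ₜ[C] y) by simp, map_mul, hy]
        rfl
      | add x y hx hy => simp only [map_add, hx, hy]
    show ρ (σ1 (t' a)) = ρ (tb (τ₁ a))
    rw [hu t, ← hr₃]
    refine htarget (r (ρB.comp s)) (ρ.comp σ1) (r (ρB.comp t)) (fun a => ?_) (fun a => ?_) (fun a => ?_) a
    · rw [hr₁, hr₁]
    · show ρ (σ1 (s' a)) = _
      rw [hσs, hr₃]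
      exact hu s a
    · show ρ (σ1 (fB (t a))) = _
      rw [hσB, hr₂]
      rfl)
  -- shrink
  let C₂ := Localization.Away g
  haveI : Algebra.Etale C₁ C₂ := Algebra.Etale.of_isLocalizationAway g
  haveI : Algebra.Etale C C₂ := Algebra.Etale.comp C C₁ C₂
  let j : C₁ →ₐ[C] C₂ := IsScalarTower.toAlgHom C C₁ C₂
  let jA : A ⊗[C] C₁ →ₐ[C] A ⊗[C] C₂ := Algebra.TensorProduct.map (AlgHom.id C A) j
  let jB : B ⊗[C] C₁ →ₐ[C] B ⊗[C] C₂ := Algebra.TensorProduct.map (AlgHom.id C B) j
  let τ₂ : A' →ₐ[C] A ⊗[C] C₂ := jA.comp (τ₁.restrictScalars C)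
  let σ₂ : B' →ₐ[C] B ⊗[C] C₂ :=
    { toRingHom := jB.toRingHom.comp σ1
      commutes' := fun c => by
        show jB (σ1 (algebraMap C B' c)) = _
        rw [← fB.commutes c, hσB]
        show jB (algebraMap C B c ⊗ₜ 1) = _
        rw [← Algebra.TensorProduct.algebraMap_apply, jB.commutes] }
  have hsw : ∀ (u : A →ₐ[C] B) (x : A ⊗[C] C₁),
      jB (Algebra.TensorProduct.map u (AlgHom.id C C₁) x) =
        Algebra.TensorProduct.map u (AlgHom.id C C₂) (jA x) := by
    intro u x
    have : jB.comp (Algebra.TensorProduct.map u (AlgHom.id C C₁)) =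
        (Algebra.TensorProduct.map u (AlgHom.id C C₂)).comp jA :=
      Algebra.TensorProduct.ext' fun a y => by simp [jA, jB]
    exact AlgHom.congr_fun this x
  obtain ⟨φ, hφet, hφ⟩ := exists_etale_piece s t s' t' fB hfull₀ hinj₀ ι hι hst hfull hsq₁ hsq₂
    @hexts @hextt C₂ τ₂ (fun a => by
      show jA (τ₁ (algebraMap A A' a)) = _
      rw [τ₁.commutes]
      simp [jA]) σ₂ (fun b => by
      show jB (σ1 (fB b)) = _
      rw [hσB]
      simp [jB]) (fun a => by
      show jB (σ1 (s' a)) = _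
      rw [hσs]
      exact hsw s _) (fun a => by
      show jB (σ1 (t' a)) = _
      have hu : IsUnit (jB (algebraMap C₁ (B ⊗[C] C₁) g)) := by
        show IsUnit (jB ((1 : B) ⊗ₜ[C] g))
        simpa [jB, j] using (IsLocalization.Away.algebraMap_isUnit (S := C₂) g).map
          (Algebra.TensorProduct.includeRight : C₂ →ₐ[C] B ⊗[C] C₂)
      have h0 : jB (σ1 (t' a)) - jB (tb (τ₁ a)) = 0 :=
        hu.mul_right_eq_zero.1 (by rw [← map_sub, ← map_mul]; exact (congrArg jB (hg a)).trans (map_zero _))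
      rw [sub_eq_zero] at h0
      rw [h0]
      exact hsw t _)
  let ψ₂ : C₂ →+* K := IsLocalization.Away.lift g (g := (ψ₁ : C₁ →+* K)) (Ne.isUnit hgq)
  let ψ₂C : C₂ →ₐ[C] K :=
    { toRingHom := ψ₂
      commutes' := fun c => by
        show ψ₂ (algebraMap C C₂ c) = _
        rw [IsScalarTower.algebraMap_apply C C₁ C₂]
        exact (IsLocalization.Away.lift_eq g _ _).trans (ψ₁.commutes c) }
  refine ⟨C₂, inferInstance, inferInstance, inferInstance, φ, hφet,
    PrimeSpectrum.comap ψ₂ ⊥, PrimeSpectrum.ext ?_⟩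
  rw [← hP'q, ← hw₀']
  ext c
  show ψ₂ (φ c) = 0 ↔ w₀ (ι c) = 0
  have key : ψ₂ (φ c) = w₀ (ι c) := by
    rw [← hW₀, ← hgood]
    let L : A ⊗[C] C₂ →ₐ[C] K := Algebra.TensorProduct.lift z₀C ψ₂C fun _ _ => Commute.all _ _
    have h1 : L (τ₂ (ι c)) = ψ₂ (φ c) := by
      rw [hφ]
      simp [L, ψ₂C]
    rw [← h1]
    show L (jA (τ₁ (ι c))) = _
    have h2 : L.comp jA = Algebra.TensorProduct.lift z₀C ψ₁ fun _ _ => Commute.all _ _ :=
      Algebra.TensorProduct.ext' fun a y => by
        simp [L, jA, j, ψ₂C, ψ₂, IsLocalization.Away.lift_eq]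
    exact AlgHom.congr_fun h2 _
  rw [key]

end Groth.L24.AffQuot.EtaleStab
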