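import Mathlib.RingTheory.Etale.Basic
import Mathlib.RingTheory.Unramified.Finite
import Mathlib.RingTheory.Flat.Basic
import Mathlib.RingTheory.Localization.Away.Lemmas
import Mathlib.RingTheory.RingHom.Etale
import Mathlib.RingTheory.TensorProduct.Maps

/-!
# An equivariant section of an etale morphism of groupoids makes the invariants etale
-/

set_option autoImplicit false
set_option linter.style.haveILetI false
universe u

open TensorProduct

namespace Groth.L24.AffQuot.EtaleStab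

/-- Flat base change of invariant elements. -/
theorem full_tensor {C A B C' : Type u} [CommRing C] [CommRing A] [CommRing B] [CommRing C'] [Algebra C A]
    [Algebra C B] [Algebra C C'] (ι : C' →ₐ[C] A) (s t : A →ₐ[C] B) (hι : Function.Injective ι)
    (hfull : ∀ a, s a = t a → ∃ c, ι c = a) (D : Type u) [CommRing D] [Algebra C D] [Module.Flat C D]
    (x : A ⊗[C] D) (hx : Algebra.TensorProduct.map s (AlgHom.id C D) x = Algebra.TensorProduct.map t (AlgHom.id C D) x)
    (hst : ∀ c, s (ι c) = t (ι c)) :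
    (∃ y, Algebra.TensorProduct.map ι (AlgHom.id C D) y = x) ∧
      Function.Injective (Algebra.TensorProduct.map ι (AlgHom.id C D)) := by
  let d : A →ₗ[C] B := s.toLinearMap - t.toLinearMap
  have hexact : Function.Exact ι.toLinearMap d := fun a => by
    constructor
    · intro ha
      exact hfull a (sub_eq_zero.1 (by simpa [d] using ha))
    · rintro ⟨c, rfl⟩
      simp [d, hst]
  have h := Module.Flat.rTensor_exact D hexact
  have h1 : ∀ z, Algebra.TensorProduct.map ι (AlgHom.id C D) z = ι.toLinearMap.rTensor D z := fun z => by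
    induction z using TensorProduct.induction_on with
    | zero => simp
    | tmul a b => simp
    | add a b ha hb => simp [ha, hb]
  have h2 : ∀ z, d.rTensor D z =
      Algebra.TensorProduct.map s (AlgHom.id C D) z - Algebra.TensorProduct.map t (AlgHom.id C D) z := fun z => by
    induction z using TensorProduct.induction_on with
    | zero => simp
    | tmul a b => simp [d, sub_tmul]
    | add a b ha hb => simp only [map_add, ha, hb]; abel
  refine ⟨?_, fun a b hab => Module.Flat.rTensor_preserves_injective_linearMap (M := D) ι.toLinearMap hι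
    (by rw [← h1, ← h1, hab])⟩
  obtain ⟨y, hy⟩ := (h x).1 (by rw [h2, hx, sub_self])
  exact ⟨y, (h1 y).trans hy⟩

/-- An equivariant section over an etale algebra gives an etale map out of the invariants. -/
theorem exists_etale_piece {C A B A' B' C' : Type u} [CommRing C] [CommRing A] [CommRing B] [CommRing A']
    [CommRing B'] [CommRing C'] [Algebra C A] [Algebra C B] [Algebra C A'] [Algebra C B'] [Algebra C C']
    [Algebra A A'] [IsScalarTower C A A'] [Algebra.Etale A A']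
    (s t : A →ₐ[C] B) (s' t' : A' →ₐ[C] B') (fB : B →ₐ[C] B')
    (hfull₀ : ∀ a, s a = t a → ∃ c, algebraMap C A c = a) (hinj₀ : Function.Injective (algebraMap C A))
    (ι : C' →ₐ[C] A') (hι : Function.Injective ι) (hst : ∀ c, s' (ι c) = t' (ι c))
    (hfull : ∀ a, s' a = t' a → ∃ c, ι c = a)
    (hsq₁ : ∀ a, s' (algebraMap A A' a) = fB (s a)) (hsq₂ : ∀ a, t' (algebraMap A A' a) = fB (t a))
    (hexts : ∀ {T : Type u} [CommRing T] (f g : B' →+* T),
      (∀ b, f (fB b) = g (fB b)) → (∀ a, f (s' a) = g (s' a)) → f = g)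
    (hextt : ∀ {T : Type u} [CommRing T] (f g : B' →+* T),
      (∀ b, f (fB b) = g (fB b)) → (∀ a, f (t' a) = g (t' a)) → f = g)
    (D : Type u) [CommRing D] [Algebra C D] [Algebra.Etale C D]
    (τ : A' →ₐ[C] A ⊗[C] D) (hτ : ∀ a, τ (algebraMap A A' a) = a ⊗ₜ 1)
    (σ : B' →ₐ[C] B ⊗[C] D) (hσ : ∀ b, σ (fB b) = b ⊗ₜ 1)
    (hσs : ∀ a, σ (s' a) = Algebra.TensorProduct.map s (AlgHom.id C D) (τ a))
    (hσt : ∀ a, σ (t' a) = Algebra.TensorProduct.map t (AlgHom.id C D) (τ a)) :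
    ∃ φ : C' →ₐ[C] D, φ.toRingHom.Etale ∧ ∀ c, τ (ι c) = (1 : A) ⊗ₜ[C] φ c := by
  let f : A →ₐ[C] A' := IsScalarTower.toAlgHom C A A'
  let f₂ : A ⊗[C] D →ₐ[C] A' ⊗[C] D := Algebra.TensorProduct.map f (AlgHom.id C D)
  let τ₂ : A' ⊗[C] D →ₐ[C] A ⊗[C] D :=
    Algebra.TensorProduct.lift τ Algebra.TensorProduct.includeRight fun _ _ => Commute.all _ _
  let s₂ : A ⊗[C] D →ₐ[C] B ⊗[C] D := Algebra.TensorProduct.map s (AlgHom.id C D)
  let t₂ : A ⊗[C] D →ₐ[C] B ⊗[C] D := Algebra.TensorProduct.map t (AlgHom.id C D)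
  let s'₂ : A' ⊗[C] D →ₐ[C] B' ⊗[C] D := Algebra.TensorProduct.map s' (AlgHom.id C D)
  let t'₂ : A' ⊗[C] D →ₐ[C] B' ⊗[C] D := Algebra.TensorProduct.map t' (AlgHom.id C D)
  let fB₂ : B ⊗[C] D →ₐ[C] B' ⊗[C] D := Algebra.TensorProduct.map fB (AlgHom.id C D)
  let σ₂ : B' ⊗[C] D →ₐ[C] B ⊗[C] D :=
    Algebra.TensorProduct.lift σ Algebra.TensorProduct.includeRight fun _ _ => Commute.all _ _
  have hτf : τ₂.comp f₂ = AlgHom.id C _ := Algebra.TensorProduct.ext' fun a d => by simp [τ₂, f₂, f, hτ]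
  have hσs₂ : σ₂.comp s'₂ = s₂.comp τ₂ := Algebra.TensorProduct.ext' fun a d => by
    simp [σ₂, s'₂, s₂, τ₂, hσs]
  have hσt₂ : σ₂.comp t'₂ = t₂.comp τ₂ := Algebra.TensorProduct.ext' fun a d => by
    simp [σ₂, t'₂, t₂, τ₂, hσt]
  have hσfB : σ₂.comp fB₂ = AlgHom.id C _ := Algebra.TensorProduct.ext' fun a d => by simp [σ₂, fB₂, hσ]
  have hsqs : fB₂.comp s₂ = s'₂.comp f₂ := Algebra.TensorProduct.ext' fun a d => by
    simp [fB₂, s₂, s'₂, f₂, f, hsq₁]
  have hsqt : fB₂.comp t₂ = t'₂.comp f₂ := Algebra.TensorProduct.ext' fun a d => by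
    simp [fB₂, t₂, t'₂, f₂, f, hsq₂]
  -- the idempotent
  let e2 : A' →ₐ[A] A' ⊗[C] D :=
    { toRingHom := (f₂.comp τ).toRingHom
      commutes' := fun a => by
        show f₂ (τ (algebraMap A A' a)) = _
        rw [hτ, Algebra.TensorProduct.algebraMap_apply]
        simp [f₂, f] }
  let μ : A' ⊗[A] A' →ₐ[A] A' ⊗[C] D :=
    Algebra.TensorProduct.lift (Algebra.TensorProduct.includeLeft : A' →ₐ[A] A' ⊗[C] D) e2
      fun _ _ => Commute.all _ _
  let e := μ (Algebra.FormallyUnramified.elem A A')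
  have hτe : τ₂ e = 1 := by
    have : ∀ z : A' ⊗[A] A', τ₂ (μ z) = τ (Algebra.TensorProduct.lmul' A z) := fun z => by
      induction z using TensorProduct.induction_on with
      | zero => simp
      | tmul a b =>
        have h2 : τ₂ (f₂ (τ b)) = τ b := congr($hτf (τ b))
        simp only [μ, Algebra.TensorProduct.lift_tmul, Algebra.TensorProduct.includeLeft_apply, map_mul,
          Algebra.TensorProduct.lmul'_apply_tmul]
        show τ₂ (a ⊗ₜ 1) * τ₂ (f₂ (τ b)) = _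
        rw [h2]
        simp [τ₂, ← Algebra.TensorProduct.one_def]
      | add a b ha hb => simp only [map_add, ha, hb]
    rw [this, Algebra.FormallyUnramified.lmul_elem, map_one]
  have hkill : ∀ x, x * e = f₂ (τ₂ x) * e := fun x => by
    induction x using TensorProduct.induction_on with
    | zero => simp
    | tmul a d =>
      have h1 : (a ⊗ₜ[C] (1 : D)) * e = f₂ (τ a) * e := by
        have := congrArg μ (Algebra.FormallyUnramified.one_tmul_mul_elem (R := A) a)
        rw [map_mul, map_mul] at this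
        simpa [μ, e2, e, ← Algebra.TensorProduct.one_def] using this.symm
      have h2 : f₂ (τ₂ (a ⊗ₜ[C] d)) = f₂ (τ a) * ((1 : A') ⊗ₜ[C] d) := by
        simp [τ₂, f₂]
      rw [h2, show a ⊗ₜ[C] d = (a ⊗ₜ[C] (1 : D)) * ((1 : A') ⊗ₜ[C] d) by simp, mul_right_comm, h1,
        mul_right_comm]
    | add a b ha hb => simp only [map_add, add_mul, ha, hb]
  have he : e * e = e := by rw [hkill e, hτe, map_one, one_mul]
  -- congruences over the section
  have hπ : ∀ (ε : A' ⊗[C] D →ₐ[C] B' ⊗[C] D) (ε' : A ⊗[C] D →ₐ[C] B ⊗[C] D) (ε₀ : A' →ₐ[C] B'),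
      σ₂.comp ε = ε'.comp τ₂ → fB₂.comp ε' = ε.comp f₂ → (∀ a, ε (a ⊗ₜ 1) = ε₀ a ⊗ₜ 1) →
      (∀ {T : Type u} [CommRing T] (p q : B' →+* T),
        (∀ b, p (fB b) = q (fB b)) → (∀ a, p (ε₀ a) = q (ε₀ a)) → p = q) →
      ∀ y, (y - fB₂ (σ₂ y)) * ε e = 0 := by
    intro ε ε' ε₀ h1 h2 h3 hext y
    let π := Ideal.Quotient.mk (Ideal.span {1 - ε e})
    have hee : IsIdempotentElem (ε e) := by
      show ε e * ε e = ε e
      rw [← map_mul, he]
    have hker : ∀ z, π z = 0 → z * ε e = 0 := fun z hz => by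
      obtain ⟨w, rfl⟩ := Ideal.mem_span_singleton'.1 (Ideal.Quotient.eq_zero_iff_mem.1 hz)
      rw [mul_assoc, sub_mul, one_mul, hee.eq, sub_self, mul_zero]
    have h1e : π (ε e) = 1 := by
      rw [← map_one π, eq_comm, Ideal.Quotient.eq]
      exact Ideal.mem_span_singleton_self _
    have hB : π.comp (Algebra.TensorProduct.includeLeft : B' →ₐ[C] B' ⊗[C] D).toRingHom =
        (π.comp fB₂.toRingHom).comp ((σ₂.comp (Algebra.TensorProduct.includeLeft : B' →ₐ[C] B' ⊗[C] D)).toRingHom) := by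
      refine hext _ _ (fun b => ?_) (fun a => ?_)
      · show π (fB b ⊗ₜ 1) = π (fB₂ (σ₂ (fB b ⊗ₜ 1)))
        simp [σ₂, hσ, fB₂]
      · show π (ε₀ a ⊗ₜ 1) = π (fB₂ (σ₂ (ε₀ a ⊗ₜ 1)))
        have k1 : σ₂ (ε (a ⊗ₜ 1)) = ε' (τ₂ (a ⊗ₜ 1)) := congr($h1 (a ⊗ₜ 1))
        have k2 : fB₂ (ε' (τ₂ (a ⊗ₜ 1))) = ε (f₂ (τ₂ (a ⊗ₜ 1))) := congr($h2 (τ₂ (a ⊗ₜ 1)))
        rw [← h3, k1, k2]
        calc π (ε (a ⊗ₜ 1)) = π (ε (a ⊗ₜ 1 * e)) := by rw [map_mul, map_mul, h1e, mul_one]
          _ = π (ε (f₂ (τ₂ (a ⊗ₜ 1)) * e)) := by rw [hkill]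
          _ = π (ε (f₂ (τ₂ (a ⊗ₜ 1)))) := by rw [map_mul, map_mul, h1e, mul_one]
    refine hker _ ?_
    rw [map_sub, sub_eq_zero]
    induction y using TensorProduct.induction_on with
    | zero => simp
    | tmul b d =>
      have hb : π (b ⊗ₜ 1) = π (fB₂ (σ₂ (b ⊗ₜ 1))) := congr($hB b)
      have hd : π ((1 : B') ⊗ₜ[C] d) = π (fB₂ (σ₂ ((1 : B') ⊗ₜ[C] d))) := by simp [σ₂, fB₂]
      rw [show b ⊗ₜ[C] d = (b ⊗ₜ[C] (1 : D)) * ((1 : B') ⊗ₜ[C] d) by simp]
      simp only [map_mul, ← hb, ← hd]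
    | add a b ha hb => simp only [map_add, ha, hb]
  have hks := hπ s'₂ s₂ s' hσs₂ hsqs (fun a => by simp [s'₂]) @hexts
  have hkt := hπ t'₂ t₂ t' hσt₂ hsqt (fun a => by simp [t'₂]) @hextt
  have heinv : s'₂ e = t'₂ e := by
    have k1 : σ₂ (t'₂ e) = 1 := by
      show (σ₂.comp t'₂) e = 1
      rw [hσt₂, AlgHom.comp_apply, hτe, map_one]
    have k2 : σ₂ (s'₂ e) = 1 := by
      show (σ₂.comp s'₂) e = 1
      rw [hσs₂, AlgHom.comp_apply, hτe, map_one]
    have a1 := hks (t'₂ e)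
    have a2 := hkt (s'₂ e)
    rw [k1, map_one, sub_mul, one_mul, sub_eq_zero] at a1
    rw [k2, map_one, sub_mul, one_mul, sub_eq_zero, mul_comm] at a2
    exact a1.symm.trans a2
  -- descend to the invariants
  let ι₂ : C' ⊗[C] D →ₐ[C] A' ⊗[C] D := Algebra.TensorProduct.map ι (AlgHom.id C D)
  let base : C →ₐ[C] A := Algebra.ofId C A
  have hbase : Function.Injective base := hinj₀
  have hinjD : Function.Injective fun d : D => (1 : A) ⊗ₜ[C] d := by
    have h := (full_tensor base s t hbase (fun a h => hfull₀ a h) D 0 (by simp) (fun c => (s.commutes c).trans (t.commutes c).symm)).2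
    intro d d' hd
    have h' := @h ((1 : C) ⊗ₜ[C] d) ((1 : C) ⊗ₜ[C] d') (by simpa using hd)
    simpa using congrArg (TensorProduct.lid C D) h'
  have hD : ∀ c, ∃ d : D, τ (ι c) = (1 : A) ⊗ₜ[C] d := fun c => by
    have hx : s₂ (τ (ι c)) = t₂ (τ (ι c)) := by
      show Algebra.TensorProduct.map s _ _ = Algebra.TensorProduct.map t _ _
      rw [← hσs, ← hσt, hst]
    obtain ⟨⟨y, hy⟩, -⟩ := full_tensor base s t hbase (fun a h => hfull₀ a h) D _ hx (fun c => (s.commutes c).trans (t.commutes c).symm)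
    refine ⟨TensorProduct.lid C D y, ?_⟩
    rw [← hy]
    clear hy
    induction y using TensorProduct.induction_on with
    | zero => simp
    | tmul a b => simp [base, Algebra.algebraMap_eq_smul_one, smul_tmul]
    | add a b ha hb => simp only [map_add, tmul_add, ha, hb]
  choose d hd using hD
  let φ : C' →ₐ[C] D :=
    { toFun := d
      map_one' := hinjD (show (1 : A) ⊗ₜ[C] d 1 = (1 : A) ⊗ₜ[C] (1 : D) by rw [← hd, map_one, map_one]; rfl)
      map_mul' := fun x y => hinjD (show (1 : A) ⊗ₜ[C] d (x * y) = (1 : A) ⊗ₜ[C] (d x * d y) by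
        rw [← hd, map_mul, map_mul, hd, hd, Algebra.TensorProduct.tmul_mul_tmul, mul_one])
      map_zero' := hinjD (show (1 : A) ⊗ₜ[C] d 0 = (1 : A) ⊗ₜ[C] (0 : D) by rw [← hd, map_zero, map_zero, tmul_zero])
      map_add' := fun x y => hinjD (show (1 : A) ⊗ₜ[C] d (x + y) = (1 : A) ⊗ₜ[C] (d x + d y) by
        rw [← hd, map_add, map_add, hd, hd, tmul_add])
      commutes' := fun r => hinjD (show (1 : A) ⊗ₜ[C] d (algebraMap C C' r) = (1 : A) ⊗ₜ[C] algebraMap C D r by
        rw [← hd, AlgHom.commutes, AlgHom.commutes, Algebra.TensorProduct.algebraMap_apply,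
          Algebra.algebraMap_eq_smul_one, Algebra.algebraMap_eq_smul_one, tmul_smul, smul_tmul']) }
  refine ⟨φ, ?_, hd⟩
  let φ₂ : C' ⊗[C] D →ₐ[C] D := Algebra.TensorProduct.lift φ (AlgHom.id C D) fun _ _ => Commute.all _ _
  have hφ₂ : ∀ x, τ₂ (ι₂ x) = (1 : A) ⊗ₜ[C] φ₂ x := fun x => by
    induction x using TensorProduct.induction_on with
    | zero => simp
    | tmul a b =>
      show τ₂ (ι₂ (a ⊗ₜ b)) = _
      simp only [ι₂, τ₂, φ₂, Algebra.TensorProduct.map_tmul, Algebra.TensorProduct.lift_tmul, AlgHom.id_apply,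
        Algebra.TensorProduct.includeRight_apply]
      rw [hd, Algebra.TensorProduct.tmul_mul_tmul, one_mul]
      rfl
    | add a b ha hb => simp only [map_add, tmul_add, ha, hb]
  obtain ⟨⟨e₀, he₀⟩, hι₂⟩ := full_tensor ι s' t' hι hfull D e heinv hst
  change ι₂ e₀ = e at he₀
  have hid : IsIdempotentElem e₀ := hι₂ (show ι₂ (e₀ * e₀) = ι₂ e₀ by rw [map_mul, he₀, he])
  have hsurj : Function.Surjective φ₂ := fun x => ⟨1 ⊗ₜ x, by simp [φ₂]⟩
  have hφe : φ₂ e₀ = 1 := hinjD (show (1 : A) ⊗ₜ[C] φ₂ e₀ = (1 : A) ⊗ₜ[C] (1 : D) by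
    rw [← hφ₂, he₀, hτe]; rfl)
  have hker : RingHom.ker φ₂.toRingHom = Ideal.span {1 - e₀} := by
    refine le_antisymm (fun x hx => ?_) ((Ideal.span_singleton_le_iff_mem _).2 ?_)
    · refine Ideal.mem_span_singleton'.2 ⟨x, ?_⟩
      have hxe : x * e₀ = 0 := hι₂ (show ι₂ (x * e₀) = ι₂ 0 by
        rw [map_mul, he₀, hkill, hφ₂, show φ₂ x = 0 from hx, tmul_zero, map_zero, zero_mul, map_zero])
      rw [mul_sub, mul_one, hxe, sub_zero]
    · show φ₂ (1 - e₀) = 0
      rw [map_sub, map_one, hφe, sub_self]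
  letI : Algebra (C' ⊗[C] D) D := φ₂.toRingHom.toAlgebra
  haveI : IsLocalization.Away e₀ D := IsLocalization.away_of_isIdempotentElem hid hker hsurj
  have h2 : φ₂.toRingHom.Etale := RingHom.etale_algebraMap.2 (Algebra.Etale.of_isLocalizationAway e₀)
  have h1 : (Algebra.TensorProduct.includeLeftRingHom : C' →+* C' ⊗[C] D).Etale :=
    RingHom.etale_algebraMap.2 (inferInstanceAs (Algebra.Etale C' (C' ⊗[C] D)))
  have := RingHom.Etale.stableUnderComposition _ _ h1 h2
  rwa [show φ.toRingHom = φ₂.toRingHom.comp Algebra.TensorProduct.includeLeftRingHom from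
    RingHom.ext fun x => by simp [φ₂]]

end Groth.L24.AffQuot.EtaleStab
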