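import Groth.Agent.L02.Grpd.Algebra

/-!
# Targets of lifted arrows under a stabilizer preserving morphism of groupoids
-/

set_option autoImplicit false
universe u

open AlgebraicGeometry CategoryTheory Limits
open L02.Grpd

namespace Groth.L24.AffQuot.EtaleStab

variable {S : Scheme.{u}} {G' G : Grpd.GroupoidScheme S} (f : Grpd.GroupoidScheme.Hom G' G)
  (hs : IsPullback f.fR G'.s G.s f.fU)
  (hstab : ∃ g : G'.stabilizer ⟶ G.stabilizer, g ≫ pullback.fst G.j G.diag =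
    pullback.fst G'.j G'.diag ≫ f.fR ∧ IsPullback g G'.stabilizerToU G.stabilizerToU f.fU)

theorem mul_fR {T : Scheme.{u}} (α β : T ⟶ G'.R) (h : α ≫ G'.s = β ≫ G'.t) :
    mul G' α β h ≫ f.fR = mul G (α ≫ f.fR) (β ≫ f.fR)
      (by rw [Category.assoc, Category.assoc, f.comm_s, f.comm_t, reassoc_of% h]) :=
  f.comm_c α β h

include hs hstab

/-- Two lifts with the same source of arrows with the same target have the same target. -/
theorem target_eq {T : Scheme.{u}} (r₁ r₂ : T ⟶ G'.R) (hsrc : r₁ ≫ G'.s = r₂ ≫ G'.s)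
    (htgt : r₁ ≫ f.fR ≫ G.t = r₂ ≫ f.fR ≫ G.t) : r₁ ≫ G'.t = r₂ ≫ G'.t := by
  obtain ⟨g, hg, sq⟩ := hstab
  have hc : ((r₁ ≫ f.fR) ≫ G.i) ≫ G.s = (r₂ ≫ f.fR) ≫ G.t := by
    rw [inv_s, Category.assoc, Category.assoc, htgt]
  let y := mul G ((r₁ ≫ f.fR) ≫ G.i) (r₂ ≫ f.fR) hc
  have hys : y ≫ G.s = (r₁ ≫ G'.s) ≫ f.fU := by
    rw [mul_s, Category.assoc, f.comm_s, hsrc, Category.assoc]
  have hyt : y ≫ G.t = (r₁ ≫ G'.s) ≫ f.fU := by
    rw [mul_t, inv_t, Category.assoc, f.comm_s, Category.assoc]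
  let z := sq.lift (stabLift G y (hyt.trans hys.symm)) (r₁ ≫ G'.s) (by rw [stabLift_toU, hys])
  let y' := z ≫ stabι G'
  have hy'f : y' ≫ f.fR = y := by
    have h1 : z ≫ g ≫ stabι G = z ≫ stabι G' ≫ f.fR := congrArg (z ≫ ·) hg
    rw [sq.lift_fst_assoc, stabLift_ι] at h1
    rw [Category.assoc]
    exact h1.symm
  have hy's : y' ≫ G'.s = r₁ ≫ G'.s := by rw [Category.assoc, stabι_s, sq.lift_snd]
  have hy't : y' ≫ G'.t = r₁ ≫ G'.s := by rw [Category.assoc, stabι_t, sq.lift_snd]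
  have hm : mul G' r₁ y' hy't.symm = r₂ := by
    refine hs.hom_ext ?_ (by rw [mul_s, hy's, hsrc])
    rw [mul_fR f]
    refine (mul_congr G rfl hy'f _ (by rw [mul_t, inv_t])).trans ?_
    exact cancel_left' G (r₁ ≫ f.fR) (r₂ ≫ f.fR) (by rw [Category.assoc, Category.assoc, htgt])
  rw [← hm, mul_t]

/-- Composite form of `target_eq`. -/
theorem target_eq_mul {T : Scheme.{u}} (ra ρ rb : T ⟶ G'.R) (hsrc : ra ≫ G'.s = rb ≫ G'.s)
    (hcomp : ρ ≫ G'.s = ra ≫ G'.t) (htgt : ρ ≫ f.fR ≫ G.t = rb ≫ f.fR ≫ G.t) :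
    ρ ≫ G'.t = rb ≫ G'.t := by
  have := target_eq f hs hstab (mul G' ρ ra hcomp) rb (by rw [mul_s, hsrc]) (by
    rw [← Category.assoc, mul_fR f, mul_t, Category.assoc]
    exact htgt)
  rwa [mul_t] at this

end Groth.L24.AffQuot.EtaleStab
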